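import Mathlib
import Cfsg.Agent.Fus.BicEx2
import Cfsg.Agent.GT.TransferCocycle

/-!
# Proper normal subgroups of rank three in a bicyclic `2`-group with cyclic derived group
-/

set_option autoImplicit false
set_option linter.unusedSectionVars false

open scoped commutatorElement

namespace Cfsg.Agent.CZ

open Subgroup Cfsg.Agent.Fus.Bic Cfsg.Agent.GT.PG Cfsg.Agent.FG.BC

variable {G : Type*} [Group G]

theorem card_le_four {E N : Subgroup G} (h1 : ∀ s ∈ E, ∀ t ∈ E, s ∈ N → t ∈ N → s ≠ 1 → t ≠ 1 → s = t)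
    (h2 : ∀ s ∈ E, ∀ t ∈ E, s ∉ N → t ∉ N → s⁻¹ * t ∈ N) : Nat.card E ≤ 4 := by
  obtain ⟨z, hz⟩ : ∃ z : G, ∀ s ∈ E, s ∈ N → s = 1 ∨ s = z := by
    by_cases h : ∃ z ∈ E, z ∈ N ∧ z ≠ 1
    · obtain ⟨z, a, b, c⟩ := h
      exact ⟨z, fun s hs hN => (eq_or_ne s 1).imp_right fun e => h1 s hs z a hN b e c⟩
    · push Not at h
      exact ⟨1, fun s hs hN => Or.inl (h s hs hN)⟩
  obtain ⟨u, hu⟩ : ∃ u : G, ∀ s ∈ E, s ∉ N → s = u ∨ s = u * z := by
    by_cases h : ∃ u ∈ E, u ∉ N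
    · obtain ⟨u, a, b⟩ := h
      refine ⟨u, fun s hs hN => (hz _ (mul_mem (inv_mem a) hs) (h2 u a s hs b hN)).imp ?_ ?_⟩
      · intro e; exact (inv_mul_eq_one.1 e).symm
      · intro e; rw [← e]; group
    · push Not at h
      exact ⟨1, fun s hs hN => absurd (h s hs) hN⟩
  have h3 : (E : Set G) ⊆ {1, z, u, u * z} := fun s hs => by
    by_cases hN : s ∈ N
    · rcases hz s hs hN with e | e <;> simp [e]
    · rcases hu s hs hN with e | e <;> simp [e]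
  have h4 := Set.ncard_le_ncard h3 (Set.toFinite _)
  have h5 := Set.ncard_insert_le (1 : G) {z, u, u * z}
  have h6 := Set.ncard_insert_le z {u, u * z}
  have h7 := Set.ncard_insert_le u {u * z}
  rw [Set.ncard_singleton] at h7
  change (E : Set G).ncard ≤ 4
  omega

theorem eq_of_mem_zpowers [Finite G] {v s t : G} (hs : s ∈ zpowers v) (ht : t ∈ zpowers v)
    (hs2 : s ^ 2 = 1) (ht2 : t ^ 2 = 1) (hs1 : s ≠ 1) (ht1 : t ≠ 1) : s = t :=
  congrArg Subtype.val (GT.Tr.eq_of_sq_eq_one_of_isCyclic (A := zpowers v) ⟨s, hs⟩ ⟨t, ht⟩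
    (Subtype.ext hs2) (Subtype.ext ht2) (fun e => hs1 (congrArg Subtype.val e))
    fun e => ht1 (congrArg Subtype.val e))

/-- The configuration: `T` contains the dihedral group `⟨v, y⟩` and a central involution `c`. -/
structure Dat (T : Subgroup G) (a v y c : G) : Prop where
  an : a ∈ normalizer (T : Set G)
  vT : v ∈ T
  yT : y ∈ T
  cT : c ∈ T
  v1 : v ≠ 1
  y2 : y ^ 2 = 1
  c2 : c ^ 2 = 1
  yv : y * v * y⁻¹ = v⁻¹
  cc : ∀ t ∈ T, Commute c t
  yn : y ∉ zpowers v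
  cn : c ∉ zpowers v
  cy : c * y ∉ zpowers v
  der : ∀ s ∈ T, ∀ t ∈ T, ⁅s, t⁆ ∈ zpowers v
  aT : ∀ t ∈ T, ⁅a, t⁆ ∈ zpowers v
  inv : ∀ t ∈ T, t ^ 2 = 1 → ∃ w ∈ zpowers v, t = w ∨ t = w * y ∨ t = w * c ∨ t = w * (y * c)
  ay : v ^ 2 = 1 → a * y * a⁻¹ = v * y
  ab : v ^ 2 = 1 → ∀ s ∈ T, ∀ t ∈ T, Commute s t

theorem Dat.map {H : Type*} [Group H] {T : Subgroup G} {a v y c : G} (h : Dat T a v y c)
    (f : G →* H) (hf : Function.Injective f) : Dat (T.map f) (f a) (f v) (f y) (f c) := by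
  have z1 : ∀ {w}, w ∈ zpowers v → f w ∈ zpowers (f v) := fun hw =>
    MonoidHom.map_zpowers f v ▸ mem_map_of_mem f hw
  have z2 : ∀ {w}, f w ∈ zpowers (f v) → w ∈ zpowers v := fun hw => by
    rw [← MonoidHom.map_zpowers] at hw
    obtain ⟨u, hu, e⟩ := hw
    exact hf e ▸ hu
  have z3 : f v ^ 2 = 1 → v ^ 2 = 1 := fun e => hf (by rw [map_pow, e, map_one])
  refine ⟨le_normalizer_map f (mem_map_of_mem f h.an), mem_map_of_mem f h.vT, mem_map_of_mem f h.yT,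
    mem_map_of_mem f h.cT, fun e => h.v1 (hf (by rw [e, map_one])), by rw [← map_pow, h.y2, map_one],
    by rw [← map_pow, h.c2, map_one], by simpa using congrArg f h.yv, ?_, fun e => h.yn (z2 e),
    fun e => h.cn (z2 e), fun e => h.cy (z2 (by rwa [map_mul])), ?_, ?_, ?_,
    fun e => by simpa using congrArg f (h.ay (z3 e)), ?_⟩
  · rintro _ ⟨t, ht, rfl⟩
    exact (h.cc t ht).map f
  · rintro _ ⟨s, hs, rfl⟩ _ ⟨t, ht, rfl⟩
    rw [← map_commutatorElement]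
    exact z1 (h.der s hs t ht)
  · rintro _ ⟨t, ht, rfl⟩
    rw [← map_commutatorElement]
    exact z1 (h.aT t ht)
  · rintro _ ⟨t, ht, rfl⟩ e
    obtain ⟨w, hw, e⟩ := h.inv t ht (hf (by rw [map_pow, e, map_one]))
    exact ⟨f w, z1 hw, by rcases e with e | e | e | e <;> simp [e]⟩
  · rintro e _ ⟨s, hs, rfl⟩ _ ⟨t, ht, rfl⟩
    exact (h.ab (z3 e) s hs t ht).map f

section
variable [Finite G] {a x v : G} (h : Gn a x v)
include h

theorem gn_normal : (zpowers v).Normal := normal_of_commutator_le h.der.le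

theorem gn_normalD : (zpowers v ⊔ zpowers x).Normal :=
  normal_of_commutator_le (h.der.le.trans le_sup_left)

theorem gn_memD {g : G} (hg : g ∈ zpowers v ⊔ zpowers x) :
    g ∈ zpowers v ∨ ∃ w ∈ zpowers v, g = w * x :=
  have := gn_normal h
  mem_or_of_sq (le_normalizer_of_normal (mem_top x)) h.sq hg

theorem gn_decomp (g : G) : ∃ d ∈ zpowers v ⊔ zpowers x, ∃ k : ℤ, g = d * a ^ k := by
  have := gn_normalD h
  have h1 : g ∈ (zpowers v ⊔ zpowers x) ⊔ zpowers a :=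
    (sup_le le_sup_right (le_sup_right.trans le_sup_left) : zpowers a ⊔ zpowers x ≤ _)
      (h.top.ge (mem_top g))
  obtain ⟨d, hd, _, ⟨k, rfl⟩, rfl⟩ := mem_sup_of_normal_left.1 h1
  exact ⟨d, hd, k, rfl⟩

theorem gn_cong {s t : G} (hs : s ^ 2 = 1) (ht : t ^ 2 = 1) (hsD : s ∉ zpowers v ⊔ zpowers x)
    (htD : t ∉ zpowers v ⊔ zpowers x) : s⁻¹ * t ∈ zpowers v ⊔ zpowers x := by
  have := gn_normalD h
  let π := QuotientGroup.mk' (zpowers v ⊔ zpowers x)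
  have k : ∀ g, π g ∈ zpowers (π a) := fun g => by
    obtain ⟨d, hd, k, rfl⟩ := gn_decomp h g
    rw [map_mul, show π d = 1 from (QuotientGroup.eq_one_iff d).2 hd, one_mul, map_zpow]
    exact zpow_mem (mem_zpowers _) k
  exact QuotientGroup.eq.1 (show π s = π t from eq_of_mem_zpowers (k s) (k t)
    (by rw [← map_pow, hs, map_one]) (by rw [← map_pow, ht, map_one])
    (fun e => hsD ((QuotientGroup.eq_one_iff s).1 e))
    fun e => htD ((QuotientGroup.eq_one_iff t).1 e))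

theorem gn_comm (s t : G) : ⁅s, t⁆ ∈ zpowers v :=
  h.der.le (commutator_mem_commutator (mem_top s) (mem_top t))

/-- an involution centralizing a reflection and acting on `v` as a power `≡ 1 (mod 4)` -/
theorem gn_cent {y c : G} {s n : ℤ} (hy : y * v * y⁻¹ = v⁻¹) (hay : a * y * a⁻¹ = v ^ (2 * s + 1) * y)
    (hc : c ^ 2 = 1) (hcy : Commute c y) (hcv : c * v * c⁻¹ = v ^ (4 * n + 1)) :
    Commute c v ∧ Commute c (a ^ 2) := by
  obtain ⟨t, ht⟩ := gn_comm h a c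
  simp only at ht
  have e0 : a * c * a⁻¹ = v ^ t * c := by rw [ht, commutatorElement_def]; group
  have k1 : ∀ i : ℤ, c * v ^ i = v ^ ((4 * n + 1) * i) * c := fun i => by
    rw [zpow_mul, ← hcv, conj_zpow]; group
  have k2 : ∀ i : ℤ, y * v ^ i = v ^ (-i) * y := fun i => by
    rw [zpow_neg, ← inv_zpow, ← hy, conj_zpow]; group
  have e1 : (v ^ (2 * t)) ^ (2 * n + 1) = 1 := by
    have : (v ^ t * c) ^ 2 = 1 := by rw [← e0, conj_pow, hc]; group
    rw [pow_two, mul_assoc, ← mul_assoc c, k1, mul_assoc, ← pow_two, hc, mul_one, ← zpow_add] at this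
    rw [← this, ← zpow_mul]; congr 1; ring
  have e2 : v ^ (2 * t) = 1 := by
    obtain ⟨k, hk⟩ := mem_zpowers_zpow_of_odd h.pg (v ^ (2 * t)) (k := 2 * n + 1) ⟨n, rfl⟩
    rw [← hk, e1]; exact one_zpow k
  have e3 : (v ^ (4 * n)) ^ (2 * s + 1) = 1 := by
    have h1 : a * c * a⁻¹ * (a * y * a⁻¹) = a * y * a⁻¹ * (a * c * a⁻¹) := by
      rw [conj_mul, conj_mul, hcy.eq]
    rw [e0, hay] at h1
    have h2 : v ^ t * c * (v ^ (2 * s + 1) * y) = v ^ (t + (4 * n + 1) * (2 * s + 1)) * (c * y) := by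
      rw [mul_assoc, ← mul_assoc c, k1]; group
    have h3 : v ^ (2 * s + 1) * y * (v ^ t * c) = v ^ (2 * s + 1 - t) * (c * y) := by
      rw [mul_assoc, ← mul_assoc y, k2, hcy.eq]; group
    rw [h2, h3, mul_left_inj] at h1
    calc _ = v ^ (t + (4 * n + 1) * (2 * s + 1)) * (v ^ (2 * s + 1 - t))⁻¹ * (v ^ (2 * t))⁻¹ := by group
      _ = 1 := by rw [h1, e2]; group
  have e4 : v ^ (4 * n) = 1 := by
    obtain ⟨k, hk⟩ := mem_zpowers_zpow_of_odd h.pg (v ^ (4 * n)) (k := 2 * s + 1) ⟨s, rfl⟩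
    rw [← hk, e3]; exact one_zpow k
  obtain ⟨l, hl⟩ := h.exists_conj a
  refine ⟨mul_inv_eq_iff_eq_mul.1 (by rw [hcv, zpow_add, e4, one_mul, zpow_one]),
    (mul_inv_eq_iff_eq_mul.1 ?_ : a ^ 2 * c = c * a ^ 2).symm⟩
  calc _ = a * (a * c * a⁻¹) * a⁻¹ := by rw [pow_two]; group
    _ = (v ^ (2 * t)) ^ (l + 1) * c := by rw [e0, ← conj_mul, e0, ← conj_zpow, hl]; group
    _ = c := by rw [e2, one_zpow, one_mul]

theorem exists_dat {T E : Subgroup G} [hT : T.Normal] (hT1 : T ≠ ⊤) (hE : E ≤ T)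
    (hEc : ∀ s ∈ E, ∀ t ∈ E, Commute s t) (hE2 : ∀ s ∈ E, s ^ 2 = 1) (h4 : 4 < Nat.card E) :
    ∃ y c, Dat T a v y c := by
  have hN := gn_normal h
  have hcyc : ∀ s ∈ E, ∀ t ∈ E, s ∈ zpowers v → t ∈ zpowers v → s ≠ 1 → t ≠ 1 → s = t :=
    fun s hs t ht h1 h2 => eq_of_mem_zpowers h1 h2 (hE2 s hs) (hE2 t ht)
  obtain ⟨y, hyE, hyD, hyv⟩ : ∃ y ∈ E, y ∈ zpowers v ⊔ zpowers x ∧ y ∉ zpowers v := by
    by_contra hc
    push Not at hc
    exact h4.not_ge (card_le_four (N := zpowers v ⊔ zpowers x)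
      (fun s hs t ht h1 h2 => hcyc s hs t ht (hc s hs h1) (hc t ht h2))
      fun s hs t ht => gn_cong h (hE2 s hs) (hE2 t ht))
  obtain ⟨u, huE, huD⟩ : ∃ u ∈ E, u ∉ zpowers v ⊔ zpowers x := by
    by_contra hc
    push Not at hc
    refine h4.not_ge (card_le_four (N := zpowers v) hcyc fun s hs t ht h1 h2 => ?_)
    obtain ⟨w, hw, rfl⟩ := (gn_memD h (hc s hs)).resolve_left h1
    obtain ⟨w', hw', rfl⟩ := (gn_memD h (hc t ht)).resolve_left h2
    have := hN.conj_mem _ (mul_mem (inv_mem hw) hw') x⁻¹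
    convert this using 1; group
  obtain ⟨_, ⟨i, rfl⟩, hy⟩ := (gn_memD h hyD).resolve_left hyv
  simp only at hy
  obtain ⟨l, hl⟩ := h.exists_conj a
  have y1 : y * v * y⁻¹ = v⁻¹ := by
    calc _ = v ^ i * (x * v * x⁻¹) * (v ^ i)⁻¹ := by rw [hy]; group
      _ = _ := by rw [h.inv_and.1]; group
  have y2 : a * y * a⁻¹ = v ^ (2 * (l * i) + 1) * y := by
    rw [hy, ← conj_mul, h.ax, ← conj_zpow, hl]; group
  have vT : v ∈ T := zpowers_le.2 ((mul_mem_cancel_right (hE hyE)).1 (y2 ▸ hT.conj_mem y (hE hyE) a))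
    (mem_zpowers_zpow_of_odd h.pg v ⟨l * i, rfl⟩)
  have hD : zpowers v ⊔ zpowers x = zpowers v ⊔ zpowers y := by
    refine le_antisymm (sup_le le_sup_left (zpowers_le.2 ?_)) (sup_le le_sup_left (zpowers_le.2 hyD))
    exact (mul_mem_cancel_left (mem_sup_left (zpow_mem (mem_zpowers v) i))).1
      (hy ▸ mem_sup_right (mem_zpowers y))
  have hDT : zpowers v ⊔ zpowers x ≤ T := hD.le.trans (sup_le (zpowers_le.2 vT) (zpowers_le.2 (hE hyE)))
  obtain ⟨c, hcE, hcD, n, hcv⟩ : ∃ c ∈ E, c ∉ zpowers v ⊔ zpowers x ∧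
      ∃ n : ℤ, c * v * c⁻¹ = v ^ (4 * n + 1) := by
    obtain ⟨m, hm⟩ := h.exists_conj u
    obtain ⟨n, rfl | rfl⟩ := Int.even_or_odd' m
    · exact ⟨u, huE, huD, n, by rw [hm]; congr 1; ring⟩
    · refine ⟨u * y, mul_mem huE hyE, fun e => huD ((mul_mem_cancel_right hyD).1 e), -(n + 1), ?_⟩
      calc _ = (u * (y * v * y⁻¹)⁻¹ * u⁻¹)⁻¹ := by group
        _ = _ := by rw [y1, inv_inv, hm]; group
  obtain ⟨c1, c2⟩ := gn_cent h y1 y2 (hE2 c hcE) (hEc c hcE y hyE) hcv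
  have hdec : ∀ t ∈ T, t ∈ (zpowers v ⊔ zpowers y) ⊔ zpowers (a ^ 2) := fun t ht => by
    obtain ⟨d, hd, k, rfl⟩ := gn_decomp h t
    refine mul_mem (mem_sup_left (hD ▸ hd)) (mem_sup_right ?_)
    rcases Int.even_or_odd k with ⟨k, rfl⟩ | ho
    · exact ⟨k, by simp only; group⟩
    · exact absurd (eq_top_iff.2 (h.top.ge.trans (sup_le (zpowers_le.2 (zpowers_le.2
        ((mul_mem_cancel_left (hDT hd)).1 ht) (mem_zpowers_zpow_of_odd h.pg a ho)))
        (le_sup_right.trans hDT)))) hT1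
  have hcen : ∀ {g}, Commute g v → Commute g y → Commute g (a ^ 2) → ∀ t ∈ T, Commute g t :=
    fun {g} h1 h2 h3 t ht => (mem_centralizer_singleton_iff.1 ((sup_le (sup_le
      (zpowers_le.2 (mem_centralizer_singleton_iff.2 h1.eq.symm))
      (zpowers_le.2 (mem_centralizer_singleton_iff.2 h2.eq.symm)))
      (zpowers_le.2 (mem_centralizer_singleton_iff.2 h3.eq.symm)) : _ ≤ centralizer {g})
      (hdec t ht))).symm
  have hmem : ∀ g ∈ zpowers v ⊔ zpowers x, ∃ w ∈ zpowers v, g = w ∨ g = w * y := fun g hg => by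
    rcases mem_or_of_sq (le_normalizer_of_normal (mem_top y)) (hE2 y hyE ▸ one_mem _) (hD ▸ hg) with
      e | ⟨w, hw, e⟩
    exacts [⟨g, e, Or.inl rfl⟩, ⟨w, hw, Or.inr e⟩]
  have odd : v ^ 2 = 1 → ∀ k : ℤ, v ^ (2 * k + 1) = v := fun e k => by
    rw [zpow_add, zpow_mul, zpow_ofNat, e, one_zpow, one_mul, zpow_one]
  refine ⟨y, c, le_normalizer_of_normal (mem_top a), vT, hE hyE, hE hcE, h.v_ne, hE2 y hyE, hE2 c hcE,
    y1, hcen c1 (hEc c hcE y hyE) c2, hyv, fun e => hcD (mem_sup_left e),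
    fun e => hcD ((mul_mem_cancel_right hyD).1 (mem_sup_left e)), fun s _ t _ => gn_comm h s t,
    fun t _ => gn_comm h a t, fun t ht h2 => ?_, fun e => by rw [y2, odd e], fun e => ?_⟩
  · by_cases htD : t ∈ zpowers v ⊔ zpowers x
    · obtain ⟨w, hw, e | e⟩ := hmem t htD
      exacts [⟨w, hw, Or.inl e⟩, ⟨w, hw, Or.inr (Or.inl e)⟩]
    obtain ⟨w, hw, e⟩ := hmem _ (gn_cong h (hE2 c hcE) h2 hcD htD)
    have h3 := hcen c1 (hEc c hcE y hyE) c2 t ht
    rw [h3.inv_left.eq, mul_inv_eq_iff_eq_mul, mul_inv_eq_iff_eq_mul, mul_assoc] at e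
    exact ⟨w, hw, Or.inr (Or.inr e)⟩
  · have k1 : Commute a v := mul_inv_eq_iff_eq_mul.1 (by rw [hl, odd e])
    have k2 : Commute y v := mul_inv_eq_iff_eq_mul.1 (by
      rw [y1, inv_eq_iff_mul_eq_one, ← pow_two, e])
    have k3 : Commute y (a ^ 2) := (mul_inv_eq_iff_eq_mul.1 (by
      calc _ = a * (a * y * a⁻¹) * a⁻¹ := by rw [pow_two]; group
        _ = v ^ 2 * y := by
          rw [y2, odd e, ← conj_mul, y2, odd e, k1.eq, mul_inv_cancel_right, pow_two, mul_assoc]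
        _ = y := by rw [e, one_mul]) : a ^ 2 * y = y * a ^ 2).symm
    intro s hs
    exact hcen (hcen (Commute.refl v) k2.symm (k1.symm.pow_right 2) s hs).symm
      (hcen k2 (Commute.refl y) k3 s hs).symm
      (hcen (k1.pow_left 2) k3.symm (Commute.refl _) s hs).symm

end

end Cfsg.Agent.CZ
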