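import Mathlib
import Cfsg.Agent.CZ.Two
import Cfsg.Agent.S0215

/-!
# The configuration `Dat` does not occur in a Sylow `2`-subgroup of a normal simple subgroup
-/

set_option autoImplicit false
set_option linter.unusedSectionVars false

open scoped commutatorElement

namespace Cfsg.Agent.CZ

open Subgroup Cfsg.Agent.Fus.Bic

variable {G : Type*} [Group G]

/-- conjugacy under `S` -/
def Cj (S : Subgroup G) (x y : G) : Prop := ∃ g ∈ S, g * x * g⁻¹ = y

theorem Cj.symm {S : Subgroup G} {x y : G} (h : Cj S x y) : Cj S y x := by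
  obtain ⟨g, hg, rfl⟩ := h
  exact ⟨g⁻¹, inv_mem hg, by group⟩

theorem Cj.trans {S : Subgroup G} {x y z : G} (h : Cj S x y) (k : Cj S y z) : Cj S x z := by
  obtain ⟨g, hg, rfl⟩ := h
  obtain ⟨u, hu, rfl⟩ := k
  exact ⟨u * g, mul_mem hu hg, by group⟩

theorem Cj.conj {S : Subgroup G} [hS : S.Normal] {x y : G} (h : Cj S x y) (a : G) :
    Cj S (a * x * a⁻¹) (a * y * a⁻¹) := by
  obtain ⟨g, hg, rfl⟩ := h
  exact ⟨a * g * a⁻¹, hS.conj_mem g hg a, by group⟩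

theorem Cj.sq {S : Subgroup G} {x y : G} (h : Cj S x y) (hx : x ^ 2 = 1) : y ^ 2 = 1 := by
  obtain ⟨g, -, rfl⟩ := h
  rw [conj_pow, hx]; group

theorem Cj.ne {S : Subgroup G} {x y : G} (h : Cj S x y) (hx : x ≠ 1) : y ≠ 1 := by
  obtain ⟨g, -, rfl⟩ := h
  simpa using hx

/-- the fusion facts about a Sylow `2`-subgroup `T` of a non-abelian simple group `S` -/
structure Cx (S T : Subgroup G) : Prop where
  le : T ≤ S
  pg : IsPGroup 2 T
  tr : ∀ N ≤ T, (∀ s ∈ T, ∀ t ∈ T, ⁅s, t⁆ ∈ N) →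
    (∀ s ∈ T, ∀ t ∈ T, s ^ 2 = 1 → t ^ 2 = 1 → s ∉ N → t ∉ N → s⁻¹ * t ∈ N) →
    ∀ y ∈ T, y ^ 2 = 1 → ∃ u ∈ N, Cj S y u
  zs : ∀ z ∈ T, z ^ 2 = 1 → z ≠ 1 → ∃ u ∈ T, u ≠ z ∧ Cj S z u
  bu : ∀ x ∈ T, ∀ u, (∀ t ∈ T, Commute x t) → (∀ t ∈ T, Commute u t) → Cj S x u →
    ∃ n ∈ S, n ∈ normalizer (T : Set G) ∧ n * x * n⁻¹ = u
  od : ∀ n ∈ S, n ∈ normalizer (T : Set G) → ∃ m, Odd m ∧ n ^ m ∈ T

theorem cx_top [Finite G] [IsSimpleGroup G] (hG : ¬ IsMulCommutative G) (P : Sylow 2 G) :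
    Cx ⊤ (P : Subgroup G) := by
  have hc : commutator G = ⊤ := (IsSimpleGroup.eq_bot_or_eq_top_of_normal _ inferInstance).resolve_left
    fun e => hG (FG.TM.commutator_eq_bot_iff.1 e)
  refine ⟨le_top, P.isPGroup', fun N hN h1 h2 y hy y2 => ?_, fun z hz z2 z1 => ?_,
    fun x _ u hx hu ⟨g, _, e⟩ => ?_, fun n _ hn => ?_⟩
  · by_contra hcon
    push Not at hcon
    have hk : ∀ g : G, g⁻¹ * y * g ∉ N := fun g e => hcon _ e ⟨g⁻¹, mem_top _, by group⟩
    have hle : commutator (P : Subgroup G) ≤ N.subgroupOf P := commutator_le.2 fun s _ t _ =>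
      h1 s s.2 t t.2
    have := GT.PG.normal_of_commutator_le hle
    let _ : CommGroup ((P : Subgroup G) ⧸ N.subgroupOf P) :=
      { mul_comm := (Normal.quotient_commutative_iff_commutator_le.2 hle).is_comm.comm }
    have k2 : QuotientGroup.mk' (N.subgroupOf P) ⟨y, hy⟩ ^ 2 = 1 := by
      rw [← map_pow, show (⟨y, hy⟩ : (P : Subgroup G)) ^ 2 = 1 from Subtype.ext y2, map_one]
    have k := GT.Tr.transfer_eq_pow_of_conj (QuotientGroup.mk' (N.subgroupOf P)) ⟨y, hy⟩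
      fun k t hk' => by
        rcases Nat.even_or_odd' k with ⟨j, rfl | rfl⟩
        · rw [pow_mul (QuotientGroup.mk' _ _), k2, one_pow]
          exact (congrArg _ (Subtype.ext (by simp [pow_mul, y2]))).trans (map_one _)
        · rw [pow_succ (QuotientGroup.mk' _ _), pow_mul (QuotientGroup.mk' _ _), k2, one_pow, one_mul]
          have e : y ^ (2 * j + 1) = y := by rw [pow_succ, pow_mul, y2, one_pow, one_mul]
          simp only [e] at hk' ⊢
          refine QuotientGroup.eq.2 (h2 _ hk' y hy ?_ y2 (hk t) (by simpa using hk 1))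
          calc _ = t⁻¹ * y ^ 2 * t := by rw [pow_two, pow_two]; group
            _ = 1 := by rw [y2]; group
    rw [GT.Tr.transfer_eq_one_of_mem_commutator _ (hc ▸ mem_top _)] at k
    obtain ⟨j, hj⟩ := Nat.odd_iff.2 (Nat.two_dvd_ne_zero.1 P.not_dvd_index)
    rw [hj, pow_succ, pow_mul, k2, one_pow, one_mul] at k
    exact hk 1 (by simpa [mem_subgroupOf] using (QuotientGroup.eq_one_iff _).1 k.symm)
  · by_contra hcon
    push Not at hcon
    obtain ⟨N, hN, ho, hh⟩ := S0215.result P z (orderOf_eq_prime z2 z1) hz fun g hg => by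
      by_contra e
      exact hcon _ hg e ⟨g, mem_top g, rfl⟩
    rcases IsSimpleGroup.eq_bot_or_eq_top_of_normal N hN with rfl | rfl
    · have h1 : z ∈ center G := mem_center_iff.2 fun g => by
        have := mem_bot.1 (hh g)
        rw [mul_inv_eq_one, mul_inv_eq_iff_eq_mul] at this
        exact this.symm
      rcases IsSimpleGroup.eq_bot_or_eq_top_of_normal (center G) inferInstance with e | e
      · exact z1 (mem_bot.1 (e ▸ h1))
      · exact hG ⟨⟨fun a b => (mem_center_iff.1 (e ▸ mem_top b) a)⟩⟩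
    · rw [card_top] at ho
      exact (Nat.not_even_iff_odd.2 ho) (even_iff_two_dvd.2 (orderOf_eq_prime z2 z1 ▸ orderOf_dvd_natCard z))
  · obtain ⟨n, hn, h1⟩ := (GT.Tr.isWeaklyClosed_self (P : Subgroup G)).exists_conj_eq (A := {x}) (g := g)
      (fun a ha => by rw [ha]; exact mem_centralizer_iff.2 fun t ht => (hx t ht).eq.symm)
      (fun a ha => by rw [ha, e]; exact mem_centralizer_iff.2 fun t ht => (hu t ht).eq.symm)
    exact ⟨n, mem_top n, hn, (h1 x rfl).trans e⟩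
  · refine ⟨((P : Subgroup G).subgroupOf (normalizer (P : Set G))).index, Nat.odd_iff.2
      (Nat.two_dvd_ne_zero.1 fun e => P.not_dvd_index (e.trans (relIndex_dvd_index_of_le le_normalizer))), ?_⟩
    exact pow_index_mem (H := (P : Subgroup G).subgroupOf (normalizer ((P : Subgroup G) : Set G)))
      ⟨n, hn⟩

theorem Cx.map {H : Type*} [Group H] {S T : Subgroup G} (h : Cx S T) (f : G →* H)
    (hf : Function.Injective f) : Cx (S.map f) (T.map f) := by
  have c1 : ∀ {x y}, Cj S x y → Cj (S.map f) (f x) (f y) := by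
    rintro x _ ⟨g, hg, rfl⟩
    exact ⟨f g, mem_map_of_mem f hg, by simp⟩
  have s1 : ∀ {x}, f x ^ 2 = 1 → x ^ 2 = 1 := fun e => hf (by rw [map_pow, e, map_one])
  have s2 : ∀ {x}, x ^ 2 = 1 → f x ^ 2 = 1 := fun e => by rw [← map_pow, e, map_one]
  refine ⟨map_mono h.le, h.pg.map f, ?_, ?_, ?_, ?_⟩
  · rintro N hN h1 h2 _ ⟨y, hy, rfl⟩ y2
    obtain ⟨u, hu, e⟩ := h.tr (N.comap f ⊓ T) inf_le_right (fun s hs t ht => ⟨by
      simpa [map_commutatorElement] using h1 _ (mem_map_of_mem f hs) _ (mem_map_of_mem f ht),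
      T.mul_mem (T.mul_mem (T.mul_mem hs ht) (T.inv_mem hs)) (T.inv_mem ht)⟩)
      (fun s hs t ht e1 e2 n1 n2 => ⟨by
        simpa using h2 _ (mem_map_of_mem f hs) _ (mem_map_of_mem f ht) (s2 e1) (s2 e2)
          (fun e => n1 ⟨e, hs⟩) fun e => n2 ⟨e, ht⟩, T.mul_mem (T.inv_mem hs) ht⟩) y hy (s1 y2)
    exact ⟨f u, hu.1, c1 e⟩
  · rintro _ ⟨z, hz, rfl⟩ z2 z1
    obtain ⟨u, hu, e1, e2⟩ := h.zs z hz (s1 z2) fun e => z1 (by rw [e, map_one])
    exact ⟨f u, mem_map_of_mem f hu, fun e => e1 (hf e), c1 e2⟩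
  · rintro _ ⟨x, hx, rfl⟩ _ h1 h2 ⟨_, ⟨g, hg, rfl⟩, rfl⟩
    obtain ⟨n, hn, k1, k2⟩ := h.bu x hx (g * x * g⁻¹)
      (fun t ht => hf (by simpa using (h1 _ (mem_map_of_mem f ht)).eq))
      (fun t ht => hf (by simpa using (h2 _ (mem_map_of_mem f ht)).eq)) ⟨g, hg, rfl⟩
    exact ⟨f n, mem_map_of_mem f hn, le_normalizer_map f (mem_map_of_mem f k1),
      by simpa using congrArg f k2⟩
  · rintro _ ⟨n, hn, rfl⟩ h1
    obtain ⟨m, hm, k⟩ := h.od n hn (comap_map_eq_self_of_injective hf T ▸ le_normalizer_comap f h1)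
    exact ⟨m, hm, map_pow f n m ▸ mem_map_of_mem f k⟩

theorem commute_of_odd {n x : G} {m : ℕ} (hm : Odd m) (h1 : Commute (n ^ m) x)
    (h2 : Commute (n ^ 4) x) : Commute n x := by
  have h3 : Nat.Coprime m 4 := (Nat.coprime_two_right.2 hm).pow_right 2
  have := Nat.gcd_eq_gcd_ab m 4
  rw [h3] at this
  have e : n = (n ^ m) ^ m.gcdA 4 * (n ^ 4) ^ m.gcdB 4 := by
    rw [← zpow_natCast, ← zpow_natCast, ← zpow_mul, ← zpow_mul, ← zpow_add, ← this]; simp
  rw [e]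
  exact (h1.zpow_left _).mul_left (h2.zpow_left _)

/-- the part of `Dat` not involving `a` -/
structure Dh (T : Subgroup G) (v y c : G) : Prop where
  vT : v ∈ T
  yT : y ∈ T
  cT : c ∈ T
  y2 : y ^ 2 = 1
  c2 : c ^ 2 = 1
  yv : y * v * y⁻¹ = v⁻¹
  cc : ∀ t ∈ T, Commute c t
  yn : y ∉ zpowers v
  cn : c ∉ zpowers v
  cy : c * y ∉ zpowers v
  der : ∀ s ∈ T, ∀ t ∈ T, ⁅s, t⁆ ∈ zpowers v
  inv : ∀ t ∈ T, t ^ 2 = 1 → ∃ w ∈ zpowers v, t = w ∨ t = w * y ∨ t = w * c ∨ t = w * (y * c)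

theorem Dat.dh {T : Subgroup G} {a v y c : G} (h : Dat T a v y c) : Dh T v y c :=
  ⟨h.vT, h.yT, h.cT, h.y2, h.c2, h.yv, h.cc, h.yn, h.cn, h.cy, h.der, h.inv⟩

namespace Dh

variable {S T : Subgroup G} {v y c : G} (h : Dh T v y c)
include h

theorem yw {w : G} (hw : w ∈ zpowers v) : y * w * y⁻¹ = w⁻¹ := by
  obtain ⟨i, rfl⟩ := hw
  simp only
  rw [← conj_zpow, h.yv, inv_zpow]

theorem shift {w : G} (hw : w ∈ zpowers v) : Dh T v (w * y) c := by
  have wT := zpowers_le.2 h.vT hw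
  have k : Commute w v := by obtain ⟨i, rfl⟩ := hw; exact (Commute.refl v).zpow_left i
  refine ⟨h.vT, mul_mem wT h.yT, h.cT, ?_, h.c2, ?_, h.cc,
    fun e => h.yn ((mul_mem_cancel_left hw).1 e), h.cn, fun e => h.cy ?_, h.der, fun t ht t2 => ?_⟩
  · calc _ = w * (y * w * y⁻¹) * y ^ 2 := by rw [pow_two, pow_two]; group
      _ = 1 := by rw [h.yw hw, h.y2]; group
  · calc _ = w * (y * v * y⁻¹) * w⁻¹ := by group
      _ = _ := by rw [h.yv, k.inv_right.eq]; group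
  · rwa [← mul_assoc, (h.cc w wT).eq, mul_assoc, mul_mem_cancel_left hw] at e
  · obtain ⟨u, hu, e | e | e | e⟩ := h.inv t ht t2
    · exact ⟨u, hu, Or.inl e⟩
    · exact ⟨u * w⁻¹, mul_mem hu (inv_mem hw), Or.inr (Or.inl (by rw [e]; group))⟩
    · exact ⟨u, hu, Or.inr (Or.inr (Or.inl e))⟩
    · exact ⟨u * w⁻¹, mul_mem hu (inv_mem hw), Or.inr (Or.inr (Or.inr (by rw [e]; group)))⟩

theorem swap : Dh T v (y * c) c := by
  have k := h.cc y h.yT
  have k2 : y * c * c = y := by rw [mul_assoc, ← pow_two, h.c2, mul_one]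
  refine ⟨h.vT, mul_mem h.yT h.cT, h.cT, by rw [k.symm.mul_pow, h.y2, h.c2, one_mul], h.c2, ?_, h.cc,
    k.eq ▸ h.cy, h.cn, by rw [← mul_assoc, k.eq, k2]; exact h.yn, h.der, fun t ht t2 => ?_⟩
  · calc _ = y * (c * v * c⁻¹) * y⁻¹ := by group
      _ = _ := by rw [(h.cc v h.vT).eq, mul_inv_cancel_right, h.yv]
  · obtain ⟨u, hu, e⟩ := h.inv t ht t2
    rw [k2]
    exact ⟨u, hu, by tauto⟩

theorem mem_iff {g : G} (hg : g ∈ zpowers v ⊔ zpowers y) :
    g ∈ zpowers v ∨ ∃ w ∈ zpowers v, g = w * y :=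
  mem_or_of_sq (mem_normalizer_iff.2 fun w => ⟨fun hw => h.yw hw ▸ inv_mem hw, fun hw => by
    have := h.yw hw
    rw [show y * (y * w * y⁻¹) * y⁻¹ = y ^ 2 * w * (y ^ 2)⁻¹ by rw [pow_two]; group, h.y2, one_mul,
      inv_one, mul_one] at this
    exact this ▸ inv_mem hw⟩) (h.y2 ▸ one_mem _) hg

/-- every involution is fused into the dihedral group -/
theorem fuse (k : Cx S T) {t : G} (ht : t ∈ T) (t2 : t ^ 2 = 1) :
    (∃ w ∈ zpowers v, Cj S t w) ∨ Cj S t y ∨ Cj S t (v * y) := by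
  have m1 : ∀ s ∈ T, s ^ 2 = 1 → s ∉ zpowers v ⊔ zpowers y → s * c⁻¹ ∈ zpowers v ⊔ zpowers y :=
    fun s hs s2 hn => by
      obtain ⟨w, hw, e | e | e | e⟩ := h.inv s hs s2
      · exact absurd (mem_sup_left (e ▸ hw)) hn
      · exact absurd (e ▸ mul_mem (mem_sup_left hw) (mem_sup_right (mem_zpowers y))) hn
      · rw [e, mul_inv_cancel_right]; exact mem_sup_left hw
      · rw [e, ← mul_assoc, mul_inv_cancel_right]
        exact mul_mem (mem_sup_left hw) (mem_sup_right (mem_zpowers y))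
  obtain ⟨u, hu, e⟩ := k.tr (zpowers v ⊔ zpowers y) (sup_le (zpowers_le.2 h.vT) (zpowers_le.2 h.yT))
    (fun s hs t ht => mem_sup_left (h.der s hs t ht)) (fun s hs t ht s2 t2 n1 n2 => by
      have := mul_mem (inv_mem (m1 s hs s2 n1)) (m1 t ht t2 n2)
      rwa [show (s * c⁻¹)⁻¹ * (t * c⁻¹) = c * (s⁻¹ * t) * c⁻¹ by group,
        (h.cc _ (mul_mem (inv_mem hs) ht)).eq, mul_inv_cancel_right] at this) t ht t2
  rcases h.mem_iff hu with e1 | ⟨_, ⟨i, rfl⟩, rfl⟩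
  · exact Or.inl ⟨u, e1, e⟩
  have m2 : ∀ j : ℤ, y * v ^ j = v ^ (-j) * y := fun j => by
    rw [zpow_neg, ← h.yw (zpow_mem (mem_zpowers v) j)]; group
  obtain ⟨j, rfl | rfl⟩ := Int.even_or_odd' i
  · refine Or.inr (Or.inl (e.trans ⟨v ^ (-j), k.le (zpow_mem h.vT _), ?_⟩))
    simp only
    rw [← zpow_neg, neg_neg, mul_assoc, mul_assoc, m2]; group
  · refine Or.inr (Or.inr (e.trans ⟨v ^ (-j), k.le (zpow_mem h.vT _), ?_⟩))
    simp only
    rw [← zpow_neg, neg_neg, mul_assoc, mul_assoc, m2]; group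

variable [Finite G]

theorem large (k : Cx S T) (hv : v ^ 2 ≠ 1) : False := by
  obtain ⟨n, hn⟩ := IsPGroup.iff_orderOf.1 k.pg ⟨v, h.vT⟩
  rw [← orderOf_coe] at hn
  simp only at hn
  obtain ⟨m, rfl⟩ : ∃ m, n = m + 2 := by
    refine ⟨n - 2, ?_⟩
    by_contra e
    exact hv (orderOf_dvd_iff_pow_eq_one.1 (hn ▸ pow_dvd_pow 2 (by omega : n ≤ 1)))
  set z := v ^ 2 ^ (m + 1) with hz
  have zv : z ∈ zpowers v := pow_mem (mem_zpowers v) _
  have zT : z ∈ T := pow_mem h.vT _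
  have z2 : z ^ 2 = 1 := by rw [hz, ← pow_mul, ← pow_succ, ← hn, pow_orderOf_eq_one]
  have z1 : z ≠ 1 := fun e => by
    have := orderOf_dvd_of_pow_eq_one e
    rw [hn, Nat.pow_dvd_pow_iff_le_right one_lt_two] at this
    omega
  have zn : ∀ g ∈ normalizer (T : Set G), g * z * g⁻¹ = z := fun g hg => by
    have e1 : z = ⁅v, y⁆ ^ 2 ^ m := by
      rw [show ⁅v, y⁆ = v * (y * v * y⁻¹)⁻¹ by rw [commutatorElement_def]; group, h.yv, inv_inv,
        ← pow_two, ← pow_mul, ← pow_succ']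
    refine eq_of_mem_zpowers ?_ zv (by rw [conj_pow, z2]; group) z2 (by simpa using z1) z1
    rw [e1, ← conj_pow, show g * ⁅v, y⁆ * g⁻¹ = ⁅g * v * g⁻¹, g * y * g⁻¹⁆ by
      simp only [commutatorElement_def]; group]
    exact pow_mem (h.der _ ((mem_normalizer_iff.1 hg v).1 h.vT) _ ((mem_normalizer_iff.1 hg y).1 h.yT)) _
  have zc : ∀ t ∈ T, Commute z t := fun t ht =>
    (mul_inv_eq_iff_eq_mul.1 (zn t (le_normalizer ht)) : t * z = z * t).symm
  have c1 : c ≠ 1 := fun e => h.cn (e ▸ one_mem _)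
  have n1 : ¬ Cj S z c := fun e => by
    obtain ⟨g, -, hg, e⟩ := k.bu z zT c zc h.cc e
    exact h.cn (e ▸ (zn g hg).symm ▸ zv)
  have n2 : ¬ Cj S z (z * c) := fun e => by
    obtain ⟨g, -, hg, e⟩ := k.bu z zT _ zc (fun t ht => (zc t ht).mul_left (h.cc t ht)) e
    rw [zn g hg] at e
    exact c1 (by simpa using e)
  have n3 : ¬ Cj S c (z * c) := fun e => by
    obtain ⟨g, hgS, hg, e⟩ := k.bu c h.cT _ h.cc (fun t ht => (zc t ht).mul_left (h.cc t ht)) e
    obtain ⟨r, hr, hrT⟩ := k.od g hgS hg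
    have e2 : Commute (g ^ 2) c := mul_inv_eq_iff_eq_mul.1 (by
      calc _ = g * (g * c * g⁻¹) * g⁻¹ := by rw [pow_two]; group
        _ = z ^ 2 * c := by rw [e, ← conj_mul, zn g hg, e, pow_two, mul_assoc]
        _ = c := by rw [z2, one_mul])
    have e3 := commute_of_odd hr (h.cc _ hrT).symm (by
      rw [show 4 = 2 * 2 from rfl, pow_mul]; exact e2.pow_left 2)
    rw [e3.eq, mul_inv_cancel_right] at e
    exact z1 (by simpa using e)
  have key : ∀ r, Dh T v r c → ¬ Cj S z r := fun r hr e => by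
    have m : ∀ t ∈ T, t ^ 2 = 1 → t ≠ 1 → ¬ Cj S z t → Cj S t (v * r) := fun t ht t2 t1 hn => by
      rcases hr.fuse k ht t2 with ⟨w, hw, e1⟩ | e1 | e1
      · exact absurd (eq_of_mem_zpowers hw zv (e1.sq t2) z2 (e1.ne t1) z1 ▸ e1).symm hn
      · exact absurd (e.trans e1.symm) hn
      · exact e1
    exact n3 ((m c h.cT h.c2 c1 n1).trans (m _ (mul_mem zT h.cT)
      (by rw [(zc c h.cT).mul_pow, z2, h.c2, one_mul])
      (fun e => h.cn (eq_inv_of_mul_eq_one_right e ▸ inv_mem zv)) n2).symm)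
  obtain ⟨u, hu, u1, e⟩ := k.zs z zT z2 z1
  obtain ⟨w, hw, rfl | rfl | rfl | rfl⟩ := h.inv u hu (e.sq z2)
  · exact u1 (eq_of_mem_zpowers hw zv (e.sq z2) z2 (e.ne z1) z1)
  · exact key _ (h.shift hw) e
  · have e1 := e.sq z2
    rw [(h.cc w (zpowers_le.2 h.vT hw)).symm.mul_pow, h.c2, mul_one] at e1
    by_cases w1 : w = 1
    · exact n1 (by simpa [w1] using e)
    · exact n2 (eq_of_mem_zpowers hw zv e1 z2 w1 z1 ▸ e)
  · exact key _ (h.swap.shift hw) e

end Dh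

theorem small [Finite G] {S T : Subgroup G} [S.Normal] (k : Cx S T) {a v y c : G} (h : Dh T v y c)
    (an : a ∈ normalizer (T : Set G)) (v1 : v ≠ 1) (v2 : v ^ 2 = 1)
    (aT : ∀ t ∈ T, ⁅a, t⁆ ∈ zpowers v) (ay : a * y * a⁻¹ = v * y) (ac : a * c * a⁻¹ = c)
    (ab : ∀ s ∈ T, ∀ t ∈ T, Commute s t) : False := by
  have one := fun {w} (hw : w ∈ zpowers v) => FG.TM.eq_one_or_eq_of_mem_zpowers v2 hw
  have c1 : c ≠ 1 := fun e => h.cn (e ▸ one_mem _)
  have vv : v * v = 1 := by rw [← pow_two, v2]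
  have cc : c * c = 1 := by rw [← pow_two, h.c2]
  have av : a * v * a⁻¹ = v := by
    rcases one (aT v h.vT) with e | e
    · rwa [commutatorElement_def, mul_inv_eq_one] at e
    · exfalso
      rw [commutatorElement_def, mul_inv_eq_iff_eq_mul, vv] at e
      exact v1 (by simpa using e)
  have f1 : ∀ r, Dh T v r c → a * r * a⁻¹ = v * r → Cj S v r → Cj S v c := fun r hr ar e => by
    have e' := e.conj a
    rw [av, ar] at e'
    rcases hr.fuse k h.cT h.c2 with ⟨w, hw, e1⟩ | e1 | e1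
    · exact (((one hw).resolve_left (e1.ne c1)) ▸ e1).symm
    · exact e.trans e1.symm
    · exact e'.trans e1.symm
  have vc : Cj S v c := by
    have h' : Dh T c y v := by
      refine ⟨h.cT, h.yT, h.vT, h.y2, v2, ?_, ab v h.vT, fun e => ?_, fun e => ?_, fun e => ?_,
        fun s hs t ht => ?_, fun t ht t2 => ?_⟩
      · rw [(ab y h.yT c h.cT).eq, mul_inv_cancel_right, eq_inv_iff_mul_eq_one, cc]
      · rcases FG.TM.eq_one_or_eq_of_mem_zpowers h.c2 e with e | e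
        · exact h.yn (e ▸ one_mem _)
        · exact h.cy (by rw [e, cc]; exact one_mem _)
      · rcases FG.TM.eq_one_or_eq_of_mem_zpowers h.c2 e with e | e
        · exact v1 e
        · exact h.cn (e ▸ mem_zpowers _)
      · rcases FG.TM.eq_one_or_eq_of_mem_zpowers h.c2 e with e | e
        · exact h.yn (eq_inv_of_mul_eq_one_right e ▸ inv_mem (mem_zpowers v))
        · refine h.cy ?_
          rw [← e, mul_assoc, ← pow_two, h.y2, mul_one]
          exact mem_zpowers v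
      · rw [(ab s hs t ht).commutator_eq]; exact one_mem _
      · obtain ⟨w, hw, e⟩ := h.inv t ht t2
        have k1 := (ab v h.vT y h.yT).eq
        have k2 := (ab v h.vT c h.cT).eq
        have k3 := (ab y h.yT c h.cT).eq
        rcases one hw with rfl | rfl <;> rcases e with e | e | e | e
        · exact ⟨1, one_mem _, Or.inl e⟩
        · exact ⟨1, one_mem _, Or.inr (Or.inl e)⟩
        · exact ⟨c, mem_zpowers c, Or.inl (by rw [e, one_mul])⟩
        · exact ⟨c, mem_zpowers c, Or.inr (Or.inl (by rw [e, one_mul, k3]))⟩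
        · exact ⟨1, one_mem _, Or.inr (Or.inr (Or.inl (by rw [e, one_mul])))⟩
        · exact ⟨1, one_mem _, Or.inr (Or.inr (Or.inr (by rw [e, one_mul, k1])))⟩
        · exact ⟨c, mem_zpowers c, Or.inr (Or.inr (Or.inl (by rw [e, k2])))⟩
        · exact ⟨c, mem_zpowers c, Or.inr (Or.inr (Or.inr (by
            rw [e, k3, ← mul_assoc, k2, mul_assoc, k1])))⟩
    rcases h'.fuse k h.vT v2 with ⟨w, hw, e1⟩ | e1 | e1
    · exact ((FG.TM.eq_one_or_eq_of_mem_zpowers h.c2 hw).resolve_left (e1.ne v1)) ▸ e1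
    · exact f1 y h ay e1
    · exact f1 _ h.swap (by rw [← conj_mul, ay, ac, mul_assoc]) ((ab c h.cT y h.yT).eq ▸ e1)
  obtain ⟨n, hnS, hn, e⟩ := k.bu v h.vT c (ab v h.vT) h.cc vc
  have b1 : ∀ t ∈ T, ∃ d ∈ zpowers c, n * a * n⁻¹ * t * (n * a * n⁻¹)⁻¹ = d * t := fun t ht => by
    refine ⟨n * ⁅a, n⁻¹ * t * n⁆ * n⁻¹, ?_, by rw [commutatorElement_def]; group⟩
    rcases one (aT _ (by simpa using (mem_normalizer_iff.1 (inv_mem hn) t).1 ht)) with e1 | e1 <;>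
      rw [e1]
    · simp
    · exact e ▸ mem_zpowers _
  have ac' : ∀ d ∈ zpowers c, a⁻¹ * d * a = d := fun d hd => by
    rcases FG.TM.eq_one_or_eq_of_mem_zpowers h.c2 hd with rfl | rfl
    · simp
    · nth_rw 1 [← ac]; group
  set g := a⁻¹ * (n * a * n⁻¹) with hg
  have gS : g ∈ S := by
    have := mul_mem ((inferInstance : S.Normal).conj_mem n hnS a⁻¹) (inv_mem hnS)
    convert this using 1; rw [hg]; group
  have gn : g ∈ normalizer (T : Set G) := mul_mem (inv_mem an) (mul_mem (mul_mem hn an) (inv_mem hn))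
  have g0 : ∀ t, g * t * g⁻¹ = a⁻¹ * (n * a * n⁻¹ * t * (n * a * n⁻¹)⁻¹) * a := fun t => by
    rw [hg]; group
  have gc : ∀ d ∈ zpowers c, g * d * g⁻¹ = d := fun d hd => by
    rcases FG.TM.eq_one_or_eq_of_mem_zpowers h.c2 hd with rfl | rfl
    · simp
    · rw [g0, show n * a * n⁻¹ * d * (n * a * n⁻¹)⁻¹ = n * (a * (n⁻¹ * d * n) * a⁻¹) * n⁻¹ by group,
        show n⁻¹ * d * n = v by rw [← e]; group, av, e, ac' d hd]
  obtain ⟨p, hp, gv⟩ : ∃ p ∈ zpowers c, g * v * g⁻¹ = p * v := by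
    obtain ⟨p, hp, e1⟩ := b1 v h.vT
    refine ⟨p, hp, ?_⟩
    rw [g0, e1, show a⁻¹ * (p * v) * a = a⁻¹ * p * a * (a⁻¹ * v * a) by group, ac' p hp]
    nth_rw 1 [← av]; group
  obtain ⟨q, hq, gy⟩ : ∃ q ∈ zpowers c, g * y * g⁻¹ = q * (v * y) := by
    obtain ⟨q, hq, e1⟩ := b1 y h.yT
    refine ⟨q, hq, ?_⟩
    rw [g0, e1, show a⁻¹ * (q * y) * a = a⁻¹ * q * a * (a⁻¹ * y * a) by group, ac' q hq]
    congr 1
    have : a * (v * y) * a⁻¹ = y := by rw [← conj_mul, av, ay, ← mul_assoc, vv, one_mul]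
    nth_rw 1 [← this]; group
  have sq : ∀ d ∈ zpowers c, d * d = 1 := fun d hd => by
    rcases FG.TM.eq_one_or_eq_of_mem_zpowers h.c2 hd with rfl | rfl
    exacts [one_mul 1, cc]
  have cT := zpowers_le.2 h.cT
  have g2 : g ^ 2 * y * (g ^ 2)⁻¹ = p * y := by
    calc _ = g * (g * y * g⁻¹) * g⁻¹ := by rw [pow_two]; group
      _ = q * (p * v * (q * (v * y))) := by rw [gy, ← conj_mul, ← conj_mul, gc q hq, gv, gy]
      _ = q * (p * (v * q)) * (v * y) := by group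
      _ = p * (q * q) * (v * v) * y := by
        rw [(ab v h.vT q (cT hq)).eq, ← mul_assoc q, (ab q (cT hq) p (cT hp)).eq]; group
      _ = _ := by rw [sq q hq, vv]; group
  have g4 : Commute (g ^ 4) y := mul_inv_eq_iff_eq_mul.1 (by
    calc _ = g ^ 2 * (g ^ 2 * y * (g ^ 2)⁻¹) * (g ^ 2)⁻¹ := by group
      _ = g * (g * p * g⁻¹) * g⁻¹ * (g ^ 2 * y * (g ^ 2)⁻¹) := by
        nth_rw 1 [g2]; rw [pow_two]; group
      _ = y := by rw [gc p hp, gc p hp, g2, ← mul_assoc, sq p hp, one_mul])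
  obtain ⟨r, hr, hrT⟩ := k.od g gS gn
  rw [(commute_of_odd hr (ab _ hrT y h.yT) g4).eq, mul_inv_cancel_right, ← mul_assoc,
    right_eq_mul] at gy
  rcases FG.TM.eq_one_or_eq_of_mem_zpowers h.c2 hq with rfl | rfl
  · exact v1 (by simpa using gy)
  · exact h.cn (eq_inv_of_mul_eq_one_left gy ▸ inv_mem (mem_zpowers v))

theorem Dat.false [Finite G] {S T : Subgroup G} [S.Normal] (k : Cx S T) {a v y c : G}
    (h : Dat T a v y c) : False := by
  by_cases v2 : v ^ 2 = 1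
  swap
  · exact h.dh.large k v2
  have e0 : a * c * a⁻¹ = ⁅a, c⁆ * c := by rw [commutatorElement_def]; group
  rcases FG.TM.eq_one_or_eq_of_mem_zpowers v2 (h.aT c h.cT) with e | e
  · exact small k h.dh h.an h.v1 v2 h.aT (h.ay v2) (by rw [e0, e, one_mul]) (h.ab v2)
  · have ab := h.ab v2
    have k1 := (ab y h.yT c h.cT)
    have k2 : y * (y * c) = c := by rw [← mul_assoc, ← pow_two, h.y2, one_mul]
    refine small k (y := y) (c := y * c) ⟨h.vT, h.yT, mul_mem h.yT h.cT, h.y2,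
      by rw [k1.mul_pow, h.y2, h.c2, one_mul], h.yv, ab _ (mul_mem h.yT h.cT), h.yn,
      k1.eq ▸ h.cy, ?_, h.der, fun t ht t2 => ?_⟩ h.an h.v1 v2 h.aT (h.ay v2) ?_ ab
    · rw [mul_assoc, ← k1.eq, k2]; exact h.cn
    · obtain ⟨u, hu, e⟩ := h.inv t ht t2
      rw [k2]
      exact ⟨u, hu, by tauto⟩
    · rw [← conj_mul, h.ay v2, e0, e, (ab v h.vT y h.yT).eq, mul_assoc, ← mul_assoc v, ← pow_two, v2,
        one_mul]

end Cfsg.Agent.CZ
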