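import Mathlib
import Cfsg.Agent.CZ.Fus
import Cfsg.Agent.GT.Factorized
import Cfsg.Agent.GT.Subnormal2
import Cfsg.Agent.GW.Sect
import Cfsg.Agent.Fus.EssLocal
import Cfsg.Agent.S0204
import Cfsg.Agent.S0542
import Cfsg.Agent.S5217

/-!
# Products of a cyclic group and a `Z`-group: reduction to an almost simple group of `2`-rank two
-/

set_option autoImplicit false
set_option linter.unusedSectionVars false

open scoped commutatorElement Pointwise

namespace Cfsg.Agent.CZ

open Subgroup Cfsg.Agent.GT Cfsg.Agent.GT.Fac Cfsg.Agent.FG.BC Cfsg.Agent.Fus Cfsg.FusionSystem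

variable {G : Type*} [Group G] [Finite G]

theorem comm_of_sq {X : Type*} [Group X] (h : ∀ g : X, g ^ 2 = 1) (a b : X) : a * b = b * a := by
  have k : ∀ g : X, g⁻¹ = g := fun g => by rw [inv_eq_iff_mul_eq_one, ← pow_two, h]
  rw [← k (a * b), mul_inv_rev, k, k]

theorem sect {X : Type*} [Group X] [Finite X] (hX : IsPGroup 2 X) {x y : X}
    (hb : ∀ g : X, ∃ i j : ℤ, g = x ^ i * y ^ j) {N H : Subgroup X} (h : ∀ g ∈ H, g ^ 2 ∈ N) :
    N.relIndex H ≤ 8 := by
  by_cases hm : IsMetacyclic X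
  · exact (relIndex_le_of_meta (hX.to_subgroup ⊤) (FG.TM.isMetacyclic_of_injective hm
      (⊤ : Subgroup X).subtype Subtype.val_injective) le_top h).trans (by norm_num)
  · obtain ⟨M, hM⟩ := exists_nm hX hb hm
    exact hM.relIndex_le_eight h

theorem rank_three (P : Sylow 2 G) {x y : (P : Subgroup G)}
    (hb : ∀ g : (P : Subgroup G), ∃ i j : ℤ, g = x ^ i * y ^ j) : PRankLE 2 3 G := by
  rw [← PG.pRankLE_sylow_iff P]
  intro A _ hA
  have := sect P.isPGroup' hb (N := ⊥) hA
  rwa [relIndex_bot_left] at this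

theorem exists_four {K : Subgroup G} (h1 : IsSimpleGroup K) (h2 : ¬ Group.IsSolvable K) :
    ∃ V ≤ K, Nat.card V = 4 ∧ ∀ v ∈ V, v ^ 2 = 1 := by
  obtain ⟨E, hE⟩ := S0204.result (G := K) fun h => h2 inferInstance
  refine ⟨E.map K.subtype, map_subtype_le _, by rw [card_subtype, hE.card_four], ?_⟩
  rintro _ ⟨e, he, rfl⟩
  have := Monoid.pow_exponent_eq_one (⟨e, he⟩ : E)
  rw [hE.exponent_two] at this
  exact congrArg (fun t : E => ((t : K) : G)) this

theorem exists_simple [Nontrivial G] (h0 : ∀ N : Subgroup G, N.Normal → Group.IsSolvable N → N = ⊥)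
    (h3 : PRankLE 2 3 G) : ∃ S : Subgroup G, S.Normal ∧ IsSimpleGroup S ∧ ¬ IsMulCommutative S ∧
      centralizer (S : Set G) = ⊥ := by
  have hF : fittingSubgroup G = ⊥ := by
    have : Group.IsNilpotent (fittingSubgroup G) := le_fitting_iff.1 le_rfl
    exact h0 _ inferInstance inferInstance
  obtain ⟨K, hK0, hK⟩ : HasComponent G := hasComponent_iff.mpr fun h => not_subsingleton G
    (genFitting_eq_bot_iff.mp (by rw [generalizedFittingSubgroup, h, hF, bot_sup_eq]))
  have hK : IsComponent K := ⟨hK0, hK⟩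
  have key : ∀ L, IsComponent L → L = K := fun L hL => by
    by_contra hne
    obtain ⟨V, hV, v1, v2⟩ := exists_four (hK.isSimpleGroup_of_fitting_eq_bot hF)
      hK.isQuasisimple.not_isSolvable
    obtain ⟨W, hW, w1, w2⟩ := exists_four (hL.isSimpleGroup_of_fitting_eq_bot hF)
      hL.isQuasisimple.not_isSolvable
    have hc := hL.le_centralizer_of_ne hK hne
    have hp : IsProd (V ⊔ W) V W := isProd_of_le_normalizer' ((hW.trans hc).trans
      ((centralizer_le (SetLike.coe_subset_coe.2 hV)).trans (centralizer_le_normalizer _)))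
    have h1 := hp.card
    rw [show V ⊓ W = ⊥ from eq_bot_iff.2 ((inf_le_inf hV (hW.trans hc)).trans
      (hK.inf_centralizer_eq_bot hF).le), card_bot, v1, w1] at h1
    have h2 : ∀ g ∈ V ⊔ W, g ^ 2 = 1 := fun g hg => by
      obtain ⟨a, ha, b, hb, rfl⟩ := hp.exists_mul g hg
      rw [Commute.mul_pow (mem_centralizer_iff.1 (hc (hW hb)) a (hV ha)), v2 a ha, w2 b hb, one_mul]
    have h4 := h3 (V ⊔ W) ⟨⟨fun a b => comm_of_sq (by
      intro g; exact Subtype.ext (h2 g g.2)) a b⟩⟩ h2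
    omega
  have hl : layer G = K := le_antisymm (sSup_le fun L hL => (key L hL).le) hK.le_layer
  refine ⟨K, hl ▸ inferInstance, hK.isSimpleGroup_of_fitting_eq_bot hF, fun h =>
    hK.isQuasisimple.not_isSolvable (Group.isSolvable_of_comm h.is_comm.comm), eq_bot_iff.mpr ?_⟩
  have := centralizer_genFitting_le_fitting (G := G)
  rwa [generalizedFittingSubgroup, hl, hF, sup_bot_eq] at this

theorem rank_two (P : Sylow 2 G) {x y : (P : Subgroup G)}
    (hb : ∀ g : (P : Subgroup G), ∃ i j : ℤ, g = x ^ i * y ^ j) {S : Subgroup G} [hS : S.Normal]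
    [IsSimpleGroup S] (hc : ¬ IsMulCommutative S) (hP : ¬ (P : Subgroup G) ≤ S) : PRankLE 2 2 S := by
  obtain ⟨Q, hQ⟩ := S0542.result 2 S hS.isSubnormal P
  have hT : (Q : Subgroup S).map S.subtype = (P : Subgroup G) ⊓ S := by rw [hQ, subgroupOf_map_subtype]
  have k : Cx S ((P : Subgroup G) ⊓ S) := by
    have := (cx_top hc Q).map S.subtype S.subtype_injective
    rwa [hT, ← MonoidHom.range_eq_map, range_subtype] at this
  rw [← PG.pRankLE_sylow_iff Q]
  intro A hA hA2
  by_contra h4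
  let E : Subgroup (P : Subgroup G) := ((A.map (Q : Subgroup S).subtype).map S.subtype).subgroupOf P
  have hAT : (A.map (Q : Subgroup S).subtype).map S.subtype ≤ (P : Subgroup G) ⊓ S :=
    hT ▸ map_mono (map_subtype_le _)
  have e1 : Nat.card E = Nat.card A := by
    rw [Nat.card_congr (subgroupOfEquivOfLe (hAT.trans inf_le_left)).toEquiv, card_subtype,
      card_subtype]
  have e2 : ∀ s ∈ E, s ^ 2 = 1 := by
    rintro s ⟨_, ⟨a, ha, rfl⟩, e⟩
    exact Subtype.ext (by
      rw [coe_pow, show (s : G) = _ from e.symm]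
      exact congrArg (fun t : (Q : Subgroup S) => ((t : S) : G)) (hA2 a ha))
  have e3 : ∀ s ∈ E, ∀ t ∈ E, Commute s t := fun s hs t ht =>
    congrArg Subtype.val (comm_of_sq (X := E)
      (fun g => Subtype.ext (e2 g g.2)) ⟨s, hs⟩ ⟨t, ht⟩)
  have e4 : E ≤ S.subgroupOf P := fun s hs => (hAT hs).2
  by_cases hm : IsMetacyclic (P : Subgroup G)
  · have := relIndex_le_of_meta (P.isPGroup'.to_subgroup ⊤) (FG.TM.isMetacyclic_of_injective hm
      (⊤ : Subgroup (P : Subgroup G)).subtype Subtype.val_injective) (le_top (a := E)) (N := ⊥) e2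
    rw [relIndex_bot_left, e1] at this
    exact h4 this
  have hcyc := (S5217.result P.isPGroup' ⟨x, y, hb⟩ hm).1 ⟨groupFusionSystem (P : Subgroup G),
    isSaturated_sylow P, fun hin => by
      obtain ⟨z, hzS, hz, z1, z2⟩ := PG.exists_mem_center_of_normal P.isPGroup' (S.subgroupOf P)
        fun e => by
          rw [eq_bot_iff.2 (e4.trans e.le), card_bot] at e1
          omega
      obtain ⟨u, hu, u1, g, -, rfl⟩ := k.zs z ⟨z.2, hzS⟩ (congrArg Subtype.val z2)
        fun e => z1 (Subtype.ext e)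
      obtain ⟨r, hr, e⟩ := hom_eq_inner_iff'.1 hin (zpowers (z : G)) _ (mor_group_conj
        (zpowers_le.2 z.2) (a := g) fun w ⟨i, hi⟩ => by
          rw [← hi, ← conj_zpow]; exact (P : Subgroup G).zpow_mem hu.1 i)
      refine u1 ((e z (mem_zpowers _)).trans (mul_inv_eq_iff_eq_mul.2 ?_))
      exact congrArg Subtype.val (mem_center_iff.1 hz ⟨r, hr⟩)⟩
  obtain ⟨a, u, h1, h2⟩ := Bic.exists_sq_mem P.isPGroup' hb hm hcyc
  obtain ⟨v, h⟩ := Bic.exists_gn P.isPGroup' hm hcyc h1 h2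
  obtain ⟨y, c, d⟩ := exists_dat h (T := S.subgroupOf P) (fun e => hP (subgroupOf_eq_top.1 e)) e4 e3 e2
    (by omega)
  have d' := d.map (P : Subgroup G).subtype Subtype.val_injective
  rw [subgroupOf_map_subtype, inf_comm] at d'
  exact d'.false k

/-- the hypotheses after factoring out the solvable radical -/
structure Hyp (A B : Subgroup G) : Prop where
  cyc : IsCyclic A
  zg : IsZGroup B
  prod : IsProd ⊤ A B
  rad : ∀ N : Subgroup G, N.Normal → Group.IsSolvable N → N = ⊥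
  nt : Nontrivial G

namespace Hyp

variable {A B : Subgroup G} (h : Hyp A B)
include h

theorem comm {a b : G} (ha : a ∈ A) (hb : b ∈ A) : a * b = b * a :=
  have := h.cyc
  congrArg Subtype.val (mul_comm' (⟨a, ha⟩ : A) ⟨b, hb⟩)

theorem inf : A ⊓ B = ⊥ := by
  have := h.zg
  have h1 := h.prod.symm.normalClosure_le (B₁ := A ⊓ B) (W := B) (fun a ha =>
    centralizer_le_normalizer _ (mem_centralizer_iff.2 fun b hb => h.comm hb.1 ha)) le_rfl inf_le_right
  exact eq_bot_iff.2 (le_normalClosure.trans (h.rad _ inferInstance (isSolvable_of_le h1)).le)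

theorem card : Nat.card G = Nat.card A * Nat.card B := by
  have := h.prod.card
  rwa [h.inf, card_bot, mul_one, card_top] at this

theorem not_solvable : ¬ Group.IsSolvable G := fun _ =>
  have := h.nt
  top_ne_bot (h.rad ⊤ inferInstance inferInstance)

theorem exists_sylow : ∃ (P : Sylow 2 G) (x y : (P : Subgroup G)), (x : G) ∈ A ∧
    ∀ g : (P : Subgroup G), ∃ i j : ℤ, g = x ^ i * y ^ j := by
  have := h.cyc
  have := h.zg
  obtain ⟨PA⟩ : Nonempty (Sylow 2 A) := inferInstance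
  obtain ⟨PB⟩ : Nonempty (Sylow 2 B) := inferInstance
  obtain ⟨x, hx⟩ := (PA : Subgroup A).isCyclic_iff_exists_zpowers_eq_top.1 inferInstance
  obtain ⟨y, hy⟩ := (PB : Subgroup B).isCyclic_iff_exists_zpowers_eq_top.1
    (IsZGroup.isZGroup 2 Nat.prime_two PB)
  have ox : orderOf (x : G) = 2 ^ (Nat.card A).factorization 2 := by
    rw [orderOf_coe, ← Nat.card_zpowers, hx, PA.card_eq_multiplicity]
  have oy : orderOf (y : G) = 2 ^ (Nat.card B).factorization 2 := by
    rw [orderOf_coe, ← Nat.card_zpowers, hy, PB.card_eq_multiplicity]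
  obtain ⟨P, hP⟩ := (IsPGroup.of_card ((Nat.card_zpowers _).trans ox)).exists_le_sylow
  obtain ⟨Q, hQ⟩ := (IsPGroup.of_card ((Nat.card_zpowers _).trans oy)).exists_le_sylow
  obtain ⟨g, rfl⟩ := MulAction.exists_smul_eq G P Q
  obtain ⟨b, hb, a, ha, rfl⟩ := h.prod.symm.exists_mul g (mem_top g)
  have x1 : (x : G) ∈ (a • P : Sylow 2 G) := ⟨x, hP (mem_zpowers _), by
    change a * x * a⁻¹ = x
    rw [h.comm ha x.2, mul_inv_cancel_right]⟩
  have y1 : b⁻¹ * y * b ∈ (a • P : Sylow 2 G) := by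
    obtain ⟨w, hw, e⟩ := hQ (mem_zpowers _)
    refine ⟨w, hw, ?_⟩
    change b * a * w * (b * a)⁻¹ = y at e
    change a * w * a⁻¹ = _
    rw [← e]; group
  have hp := isProd_of_card_le (L := ((a • P : Sylow 2 G) : Subgroup G)) (zpowers_le.2 x1) (zpowers_le.2 y1) (by
    rw [eq_bot_iff.2 ((inf_le_inf (zpowers_le.2 x.2) (zpowers_le.2
      (mul_mem (mul_mem (inv_mem hb) y.2) hb))).trans h.inf.le), card_bot, mul_one, Nat.card_zpowers,
      Nat.card_zpowers, show b⁻¹ * y * b = MulAut.conj b⁻¹ (y : G) by simp, MulEquiv.orderOf_eq, ox, oy,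
      Sylow.card_eq_multiplicity, h.card, Nat.factorization_mul Nat.card_pos.ne' Nat.card_pos.ne',
      ← pow_add]
    rfl)
  refine ⟨a • P, ⟨x, x1⟩, ⟨_, y1⟩, x.2, fun g => ?_⟩
  obtain ⟨_, ⟨i, rfl⟩, _, ⟨j, rfl⟩, e⟩ := hp.exists_mul g g.2
  exact ⟨i, j, Subtype.ext (by simpa using e)⟩

theorem exists_index_two : ∃ M : Subgroup G, M.Normal ∧ M.index = 2 := by
  obtain ⟨a, ha⟩ := A.isCyclic_iff_exists_zpowers_eq_top.1 h.cyc
  have h1 : orderOf a = Nat.card A := by rw [← Nat.card_zpowers, ha]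
  obtain ⟨M, h2, h3, -⟩ := Tr.exists_index_two_of_semiregular (T := B) (x := a) (m := 1) (by
    by_contra ho
    obtain ⟨P, x, y, hx, hb⟩ := h.exists_sylow
    obtain ⟨n, hn⟩ := IsPGroup.iff_orderOf.1 P.isPGroup' x
    have h2 : orderOf x ∣ orderOf a := by
      rw [h1, ← orderOf_coe]; exact orderOf_dvd_natCard A hx
    rcases n with _ | n
    · rw [pow_zero, orderOf_eq_one_iff] at hn
      refine h.not_solvable (GW.isSolvable_of_isCyclic_sylow P ⟨y, fun g => ?_⟩)
      obtain ⟨i, j, rfl⟩ := hb g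
      exact ⟨j, by simp [hn]⟩
    · exact ho ((dvd_pow_self 2 n.succ_ne_zero).trans (hn ▸ h2))) (by norm_num) (by
    have := B.card_mul_index
    rw [h.card, mul_comm] at this
    rw [h1, mul_one]
    exact Nat.eq_of_mul_eq_mul_right Nat.card_pos this) fun s hs g hg => by
      obtain ⟨b, hb, c, hc, rfl⟩ := h.prod.symm.exists_mul g (mem_top g)
      rw [ha] at hs
      rw [show b * c * s * (b * c)⁻¹ = b * (c * s * c⁻¹) * b⁻¹ by group, h.comm hc hs,
        mul_inv_cancel_right, mul_mem_cancel_right (inv_mem hb), mul_mem_cancel_left hb] at hg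
      exact mem_bot.1 (h.inf.le ⟨hs, hg⟩)
  exact ⟨M, h2, h3⟩

theorem main : ∃ S : Subgroup G, S.Normal ∧ IsSimpleGroup S ∧ ¬ IsMulCommutative S ∧
    centralizer (S : Set G) = ⊥ ∧ 2 ∣ S.index ∧ PRankLE 2 2 S ∧
    ∀ (Q : Sylow 2 S) (N : Subgroup (Q : Subgroup S)), (∀ g : (Q : Subgroup S), g ^ 2 ∈ N) → N.index ≤ 8 := by
  have := h.nt
  obtain ⟨P, x, y, -, hb⟩ := h.exists_sylow
  obtain ⟨S, h1, h2, h3, h4⟩ := exists_simple h.rad (rank_three P hb)
  obtain ⟨M, m1, m2⟩ := h.exists_index_two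
  have hSM : S ≤ M := by
    rcases IsSimpleGroup.eq_bot_or_eq_top_of_normal (M.subgroupOf S) inferInstance with e | e
    · refine absurd ⟨⟨fun a b => ?_⟩⟩ h3
      have k : Nat.card S ∣ 2 := by
        rw [← index_bot, ← e, ← m2]; exact relIndex_dvd_index_of_normal M S
      have : IsCyclic S := isCyclic_of_card_dvd_prime k
      exact mul_comm' a b
    · exact subgroupOf_eq_top.1 e
  have h5 : 2 ∣ S.index := m2 ▸ index_dvd_of_le hSM
  refine ⟨S, h1, h2, h3, h4, h5, rank_two P hb h3 fun e =>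
    P.not_dvd_index (h5.trans (index_dvd_of_le e)), fun Q N hN => ?_⟩
  obtain ⟨Q₀, hQ⟩ := S0542.result 2 S h1.isSubnormal P
  obtain ⟨g, rfl⟩ := MulAction.exists_smul_eq S Q Q₀
  let f : (Q : Subgroup S) →* (P : Subgroup G) :=
    ((S.subtype.comp (MulAut.conj g).toMonoidHom).comp (Q : Subgroup S).subtype).codRestrict _
      fun q => hQ.le ⟨q, q.2, rfl⟩
  have hf : Function.Injective f := fun a b e => by
    have e' : ((f a : (P : Subgroup G)) : G) = f b := congrArg _ e
    exact Subtype.ext ((MulAut.conj g).injective (Subtype.ext e'))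
  have := sect P.isPGroup' hb (N := N.map f) (H := map f ⊤) (by
    rintro _ ⟨q, -, rfl⟩
    rw [← map_pow]
    exact mem_map_of_mem f (hN q))
  rwa [relIndex_map_map_of_injective _ _ hf, relIndex_top_right] at this

end Hyp

end Cfsg.Agent.CZ
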